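import Groth.Agent.AlgStLib.DiagProps
import Groth.Agent.AlgStLib.MorphProps
import Groth.Agent.UnivInjMor.MonoUnram
import Groth.Agent.AlgSpLib.FpqcList
import Groth.Agent.AlgSpLib.Criteria
import Groth.Agent.LqfRep.Main
import Groth.Agent.QA.Props
import Groth.Agent.AlgStLib.AutRepProps

/-!
# Diagonals of stacks with an etale presentation: unramified, and quasi-affine when separated and
quasi-compact
-/

set_option autoImplicit false
set_option backward.isDefEq.respectTransparency false
set_option backward.isDefEq.respectTransparency.types false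
universe u

namespace Groth.Agent.DMDiag

open CategoryTheory CategoryTheory.Limits AlgebraicGeometry Groth.Agent.AlgSpLib Groth.Agent.AlgStLib
open _root_.AlgSp _root_.AlgSt

variable {S : Scheme.{u}} {𝒳 : AlgSt.Cat S}

/-- an etale presentation makes the diagonal over the base unramified -/
theorem isDMOver_of_etaleAtlas (h𝒳 : FibCat.IsFibGrpd 𝒳.p)
    (d : RepByAlgSp1 (FibCat.diag (FibCat.toSelf 𝒳))) (hat : HasAtlas AlgSp.IsEtaleMor 𝒳) :
    IsDMOver 𝒳 := by
  obtain ⟨U, x, h₁, h₂⟩ := exists_atlas hat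
  have he : RepByAlgSpWith (LocP @Etale) x :=
    AlgStLib.repWith_mono h₁ fun F V a _ ha => (isEtaleMor_iff_locP (IsAlgSpace.yon_obj V)).1 ha
  have hflat : RepByAlgSpWith (LocP @Flat) x :=
    AlgStLib.repWith_mono he fun _ _ _ _ ha U V a b k h₁ h₂ c => by
      haveI : Etale k.left := ha a b k h₁ h₂ c
      infer_instance
  have hlfp : RepByAlgSpWith (LocP @LocallyOfFinitePresentation) x :=
    AlgStLib.repWith_mono he fun _ _ _ _ ha U V a b k h₁ h₂ c => by
      haveI : Etale k.left := ha a b k h₁ h₂ c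
      infer_instance
  have hun : RepByAlgSpWith (LocP (@LocallyOfFiniteType ⊓ @FormallyUnramified)) x :=
    AlgStLib.repWith_mono he fun _ _ _ _ ha U V a b k h₁ h₂ c => by
      haveI : Etale k.left := ha a b k h₁ h₂ c
      exact ⟨inferInstance, inferInstance⟩
  exact repWith_diag_of_cover cls_unramified (fun g hg => isDMMor_of_rep hg) h𝒳 d
    (isAlgSpaceP_yon U) (lifts_of_fppf hflat hlfp h₂) hun

/-- locally quasi-finite, separated, quasi-compact morphisms of algebraic spaces to a scheme are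
quasi-affine -/
theorem isQuasiAffineMor_of_lqf {F : Sp S} {U : Over S} (hF : IsAlgSpace F) (π : F ⟶ (yon S).obj U)
    (hqf : LocP (@LocallyQuasiFinite ⊓ @LocallyOfFiniteType) π) (hsep : IsSeparatedMor π)
    (hqc : AlgSp.IsQuasiCompactMor π) : IsQuasiAffineMor π := by
  intro Z hZ g
  have sq := IsPullback.of_hasPullback π g
  have hP : IsAlgSpace (pullback π g) :=
    isAlgSpace_of_isPullback_space (IsAlgSpace.yon_obj U) hF (IsAlgSpace.yon_obj Z) sq
  have hqf' := locP_baseChange etST_lqf hF (IsAlgSpace.yon_obj U) hP (IsAlgSpace.yon_obj Z) sq hqf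
  have hsep' := isSeparatedMor_baseChange sq hsep
  obtain ⟨W, ⟨φ⟩⟩ := LqfRep.exists_iso_yon_of_lqf_separated hP (pullback.snd π g) hqf' hsep'
  obtain ⟨i, hi⟩ := exists_map_eq (φ.inv ≫ pullback.snd π g)
  have hl := hqf' φ.inv (𝟙 _) i (repWith_of_isIso _) repWith_id' (by rw [Category.comp_id, hi])
  have hs : IsSeparated i.left := (isSeparatedMor_yon_map_iff i).1 (by
    rw [hi]
    exact isSeparatedMor_baseChange
      (IsPullback.of_horiz_isIso ⟨(Category.comp_id (φ.inv ≫ pullback.snd π g)).symm⟩ :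
        IsPullback φ.inv (φ.inv ≫ pullback.snd π g) (pullback.snd π g) (𝟙 _)) hsep')
  refine ⟨W, i, φ.inv ≫ pullback.fst π g, sq.of_iso φ (Iso.refl _) (Iso.refl _) (Iso.refl _)
    (by simp) (by simp [hi]) (by simp) (by simp), ?_⟩
  have : IsAffine Z.left := hZ
  have := compactSpace_of_isQuasiCompactSp (hqc (IsAlgSpace.yon_obj Z) (isQuasiCompactSp_yon Z) g _ _ sq)
  have : CompactSpace (Points ((yon S).obj W)) := by
    refine ⟨(Function.Surjective.range_eq (f := Points.map φ.hom) fun q => ⟨Points.map φ.inv q, ?_⟩) ▸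
      isCompact_range (Points.continuous_map φ.hom)⟩
    rw [← Points.map_comp, Iso.inv_hom_id, Points.map_id]
  have : CompactSpace W.left := (Points.schemeHomeo W).symm.compactSpace
  have : QuasiCompact i.left := by rw [quasiCompact_iff_compactSpace]; infer_instance
  have : LocallyQuasiFinite i.left := hl.1
  have : LocallyOfFiniteType i.left := hl.2
  have : IsAffine i.left.normalization := isAffine_of_isAffineHom i.left.fromNormalization
  exact Scheme.IsQuasiAffine.of_isImmersion i.left.toNormalization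

/-- an etale presentation and a separated quasi-compact diagonal give a quasi-affine diagonal -/
theorem repWith_quasiAffine_diag (h𝒳 : FibCat.IsFibGrpd 𝒳.p)
    (d : RepByAlgSp1 (FibCat.diag (FibCat.toSelf 𝒳))) (hat : HasAtlas AlgSp.IsEtaleMor 𝒳)
    (hsep : RepByAlgSpWith AlgSp.IsSeparatedMor (FibCat.diag (FibCat.toSelf 𝒳)))
    (hqc : RepByAlgSpWith AlgSp.IsQuasiCompactMor (FibCat.diag (FibCat.toSelf 𝒳))) :
    RepByAlgSpWith AlgSp.IsQuasiAffineMor (FibCat.diag (FibCat.toSelf 𝒳)) := by
  have hq : RepByAlgSpWith (LocP (@LocallyQuasiFinite ⊓ @LocallyOfFiniteType))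
      (FibCat.diag (FibCat.toSelf 𝒳)) :=
    isQuasiDMMor_of_isDMMor (isDMOver_of_etaleAtlas h𝒳 d hat)
  haveI := respectsIso_onSp (cls_lqf (S := S)).bc
  haveI := respectsIso_onSp (cls_separated (S := S)).bc
  haveI := respectsIso_quasiCompact (S := S)
  haveI := respectsIso_and (onSp (AlgSp.IsSeparatedMor (S := S))) AlgSp.IsQuasiCompactMor
  refine AlgStLib.repWith_mono
    (AlgStLib.repWith_and (A := onSp (LocP (S := S) (@LocallyQuasiFinite ⊓ @LocallyOfFiniteType)))
      (B := onSp (AlgSp.IsSeparatedMor (S := S)) ⊓ AlgSp.IsQuasiCompactMor) (repWith_onSp_iff.2 hq)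
      (AlgStLib.repWith_and (repWith_onSp_iff.2 hsep) hqc))
    fun F V a hF ha => ?_
  exact isQuasiAffineMor_of_lqf hF a (ha.1 hF (IsAlgSpace.yon_obj V)) (ha.2.1 hF (IsAlgSpace.yon_obj V)) ha.2.2

end Groth.Agent.DMDiag
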