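import Groth.Agent.DMDiag.Basic
import Groth.Agent.AlgStLib.OpenSub
import Groth.Agent.AlgStLib.TrivStab
import Groth.Agent.AlgStLib.Cancel
import Groth.Agent.GerbLib.Glue
import Groth.Agent.QuotShLib.Fppf

/-!
# Natural automorphisms of a map to a DM stack with separated diagonal are determined on a dense open space
-/

set_option autoImplicit false
set_option backward.isDefEq.respectTransparency false
set_option backward.isDefEq.respectTransparency.types false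
set_option linter.style.haveILetI false
set_option maxHeartbeats 1000000
universe u

noncomputable section

namespace Groth.Agent.DMDiag

open CategoryTheory CategoryTheory.Limits AlgebraicGeometry Groth.Agent.AlgSpLib Groth.Agent.AlgStLib
  Groth.Agent.FibCatRep Opposite
open _root_.AlgSp _root_.AlgSt

variable {S : Scheme.{u}} {𝒳 𝒴 : AlgSt.Cat S}

/-- the locus where a natural endomorphism is trivial -/
def Triv {F : 𝒳 ⥤ᵇ 𝒴} (α : F ⟶ F) (ξ : 𝒳.obj) : Prop := α.toNatTrans.app ξ = 𝟙 (F.obj ξ)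

variable {F : 𝒳 ⥤ᵇ 𝒴} (α : F ⟶ F)

lemma map_app_id (ξ : 𝒳.obj) : 𝒴.p.map (α.toNatTrans.app ξ) = 𝟙 _ :=
  (map_app α ξ).trans (eqToHom_refl _ _)

lemma triv_of_hom (h𝒴 : FibCat.IsFibGrpd 𝒴.p) {ξ ξ' : 𝒳.obj} (m : ξ' ⟶ ξ) (h : Triv α ξ) : Triv α ξ' := by
  refine cancel h𝒴 (F.map m) (by rw [map_app_id, 𝒴.p.map_id]) ?_
  rw [← α.toNatTrans.naturality m, h, Category.comp_id, Category.id_comp]

/-- the automorphisms as a functor to the inertia -/
def autFun (h𝒴 : FibCat.IsFibGrpd 𝒴.p) : 𝒳 ⥤ᵇ FibCat.inertia (FibCat.toSelf 𝒴) where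
  toFunctor :=
    { obj := fun ξ => ⟨F.obj ξ,
        haveI : IsIso (𝒴.p.map (α.toNatTrans.app ξ)) := by rw [map_app_id]; infer_instance
        haveI := FibCatRep.isIso_of_map h𝒴 (α.toNatTrans.app ξ)
        asIso (α.toNatTrans.app ξ), map_app_id α ξ⟩
      map := fun {ξ ξ'} m => ⟨F.map m, (α.toNatTrans.naturality m).symm⟩
      map_id := fun ξ => FibCat.InertiaObj.hom_ext (F.toFunctor.map_id ξ)
      map_comp := fun f g => FibCat.InertiaObj.hom_ext (F.toFunctor.map_comp f g) }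
  w := F.w

/-- the trivial locus on a chart is represented by the base change of the neutral section -/
theorem exists_triv_model (h𝒴 : FibCat.IsFibGrpd 𝒴.p) {P : MorphismProperty Scheme.{u}}
    (hn : AlgSt.RepByAlgSpWith (AlgSp.RepWith P) (FibCat.inertiaNeutral (FibCat.toSelf 𝒴)))
    (U : Over S) (x : FibCat.overCat U ⥤ᵇ 𝒳) :
    ∃ (V : Over S) (ι : V ⟶ U), P ι.left ∧ ∀ o : Over U, Triv α (x.obj o) ↔ ∃ g, g ≫ ι = o.hom := by
  let N := FibCat.inertiaNeutral (FibCat.toSelf 𝒴)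
  let y := BasedFunctor.comp x (autFun α h𝒴)
  obtain ⟨V, ι, e, he, hP, ⟨i⟩⟩ := exists_scheme_model hn U y
  refine ⟨V, ι, hP, fun o => ⟨fun h => ?_, ?_⟩⟩
  · let z := F.obj (x.obj o)
    have hz : 𝒴.p.obj z = o.left := (F.w_obj _).trans (x.w_obj o)
    let j : y.obj o ≅ N.obj z :=
      { hom := ⟨𝟙 z, by
          show α.toNatTrans.app (x.obj o) ≫ 𝟙 z = 𝟙 z ≫ 𝟙 z
          rw [show α.toNatTrans.app (x.obj o) = 𝟙 z from h]⟩
        inv := ⟨𝟙 z, by
          show 𝟙 z ≫ 𝟙 z = 𝟙 z ≫ α.toNatTrans.app (x.obj o)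
          rw [show α.toNatTrans.app (x.obj o) = 𝟙 z from h]⟩
        hom_inv_id := FibCat.InertiaObj.hom_ext (Category.id_comp _)
        inv_hom_id := FibCat.InertiaObj.hom_ext (Category.id_comp _) }
    let η : (FibCat.fp y N).obj := ⟨⟨o, z, j⟩,
      fpProp_of_map y N _ rfl (𝒴.p.map_id _)⟩
    obtain ⟨ξ, k, hk, hk'⟩ := (isEquivOver_data he).2 η
    let n : (AlgSt.overMap ι).obj ξ ⟶ o := i.inv.toNatTrans.app ξ ≫ k.hom.hom.fst
    haveI : IsIso n := by
      haveI : IsIso k.hom.hom.fst := inferInstanceAs (IsIso ((FibCat.fpFst y N).map k.hom))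
      haveI : IsIso (i.inv.toNatTrans.app ξ) :=
        inferInstanceAs (IsIso (((BasedNatTrans.forgetful _ _).mapIso i).inv.app ξ))
      infer_instance
    refine ⟨(inv n).left ≫ ξ.hom, ?_⟩
    rw [Category.assoc]
    exact Over.w (inv n)
  · rintro ⟨g, hg⟩
    let a : (AlgSt.overMap ι).obj (Over.mk g) ≅ o := Over.isoMk (Iso.refl _) (by
      show 𝟙 _ ≫ o.hom = g ≫ ι
      rw [Category.id_comp, hg])
    let η := e.obj (Over.mk g)
    let j : (FibCat.fpFst y N).obj η ≅ o :=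
      ((BasedNatTrans.forgetful _ _).mapIso i).app (Over.mk g) ≪≫ a
    let q : y.obj o ≅ N.obj η.obj.snd := (y.toFunctor.mapIso j).symm ≪≫ η.obj.iso
    have hc : α.toNatTrans.app (x.obj o) ≫ q.hom.hom = q.hom.hom ≫ 𝟙 η.obj.snd := q.hom.comm
    haveI : IsIso q.hom.hom := inferInstanceAs (IsIso ((FibCat.inertiaToBase (FibCat.toSelf 𝒴)).map q.hom))
    replace hc := hc.trans (Category.comp_id _)
    show α.toNatTrans.app (x.obj o) = 𝟙 _
    rw [← cancel_mono q.hom.hom, hc]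
    exact (Category.id_comp _).symm

/-- natural endomorphisms of maps to a DM stack with separated diagonal are determined on dense open spaces -/
theorem eq_id_of_dense {𝒰 𝒱 : AlgSt.Cat S} (h𝒳 : AlgSt.IsDM Scheme.fppfPrecoverage 𝒳)
    (h𝒴 : AlgSt.IsDM Scheme.fppfPrecoverage 𝒴)
    (hΔ : AlgSt.RepByAlgSpWith AlgSp.IsSeparatedMor (FibCat.diag (FibCat.toSelf 𝒴)))
    (i : 𝒰 ⥤ᵇ 𝒳) (hdense : Dense (Set.range (AlgSt.Points.map i)))
    (j : 𝒱 ⥤ᵇ 𝒴) (hjf : j.toFunctor.Full ∧ j.toFunctor.Faithful) (h𝒱 : AlgSt.RepByAlgSp 𝒱)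
    (G : 𝒰 ⥤ᵇ 𝒱) (e : BasedFunctor.comp G j ≅ BasedFunctor.comp i F) : α = 𝟙 F := by
  have hgX := h𝒳.1.isStack.1
  have hgY := h𝒴.1.isStack.1
  obtain ⟨hjfull, hjfaith⟩ := hjf
  -- the neutral section of the inertia is open and closed
  have ho : AlgSt.IsOpenImm (FibCat.inertiaNeutral (FibCat.toSelf 𝒴)) :=
    repWith_neutral_of_diag (isOpenImm_diag_of_unramified
      (repWith_inertia_of_diag (isDMOver_of_etaleAtlas hgY h𝒴.1.diag h𝒴.2)))
  have hc : AlgSt.IsClosedImm (FibCat.inertiaNeutral (FibCat.toSelf 𝒴)) :=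
    repWith_neutral_of_diag (isClosedImm_diag_of_separated (repWith_inertia_of_diag hΔ))
  -- triviality on the dense part
  have hU : ∀ q : 𝒰.obj, Triv α (i.obj q) := fun q => by
    let E : j.obj (G.obj q) ≅ F.obj (i.obj q) := ((BasedNatTrans.forgetful _ _).mapIso e).app q
    let M : j.obj (G.obj q) ⟶ j.obj (G.obj q) := E.hom ≫ α.toNatTrans.app (i.obj q) ≫ E.inv
    have hM : 𝒴.p.map M = 𝟙 _ := by
      show 𝒴.p.map (E.hom ≫ α.toNatTrans.app (i.obj q) ≫ E.inv) = _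
      rw [Functor.map_comp, Functor.map_comp, map_app_id, Category.id_comp, ← Functor.map_comp, Iso.hom_inv_id,
        𝒴.p.map_id]
    obtain ⟨M', hM'⟩ := j.toFunctor.map_surjective M
    have h1 : M' = 𝟙 _ := eq_id_of_repByAlgSp h𝒱 _ M' (by
      have h0 : 𝒱.p.map M' = eqToHom (j.w_obj _).symm ≫ 𝒴.p.map (j.map M') ≫ eqToHom (j.w_obj _) := by
        rw [map_map]; simp
      rw [h0, hM', hM]
      simp)
    rw [h1, j.toFunctor.map_id] at hM'
    have := congrArg (fun t => E.inv ≫ t ≫ E.hom) hM'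
    simpa [M, Triv] using this.symm
  -- an etale chart
  obtain ⟨U, x₁, hx₁, hx₂⟩ := exists_atlas h𝒳.2
  let x := BasedFunctor.comp (AlgSt.ofOverCat U) x₁
  have he : RepByAlgSpWith (LocP @Etale) x₁ :=
    AlgStLib.repWith_mono hx₁ fun F V a _ ha => (isEtaleMor_iff_locP (IsAlgSpace.yon_obj V)).1 ha
  have hflat : RepByAlgSpWith (LocP @Flat) x₁ :=
    AlgStLib.repWith_mono he fun _ _ _ _ ha U V a b k h₁ h₂ c => by
      haveI : Etale k.left := ha a b k h₁ h₂ c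
      infer_instance
  have hlfp : RepByAlgSpWith (LocP @LocallyOfFinitePresentation) x₁ :=
    AlgStLib.repWith_mono he fun _ _ _ _ ha U V a b k h₁ h₂ c => by
      haveI : Etale k.left := ha a b k h₁ h₂ c
      infer_instance
  obtain ⟨V, ι, hι, hch⟩ := exists_triv_model α hgY ho U x
  obtain ⟨V', ι', hι', hch'⟩ := exists_triv_model α hgY hc U x
  haveI : IsOpenImmersion ι.left := hι
  haveI : IsClosedImmersion ι'.left := hι'
  have hr : ∀ {V : Over S} (ι : V ⟶ U) (_ : ∀ o : Over U, Triv α (x.obj o) ↔ ∃ g, g ≫ ι = o.hom),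
      Set.range ι.left = {t | ∃ (o : Over U) (k : ↥o.left.left), o.hom.left k = t ∧ Triv α (x.obj o)} := by
    intro V ι h
    ext t
    constructor
    · rintro ⟨v, rfl⟩
      exact ⟨Over.mk ι, v, rfl, (h _).2 ⟨𝟙 _, Category.id_comp _⟩⟩
    · rintro ⟨o, k, rfl, hk⟩
      obtain ⟨g, hg⟩ := (h o).1 hk
      exact ⟨g.left k, by rw [← Scheme.Hom.comp_apply, ← Over.comp_left, hg]⟩
  have hclosed : IsClosed (Set.range ι.left) := by
    rw [hr ι hch, ← hr ι' hch']
    exact ι'.left.isClosedEmbedding.isClosed_range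
  have hsub : AlgSt.Points.ofChart x ⁻¹' Set.range (AlgSt.Points.map i) ⊆ Set.range ι.left := by
    rintro t ⟨p, hp⟩
    obtain ⟨p, rfl⟩ := AlgSt.Points.mk_surjective p
    obtain ⟨r, m, n, -⟩ := (mk_eq_iff hgX).1 hp
    have hr' : Triv α r.obj := triv_of_hom α hgY m (hU p.obj)
    let A : Over U := Over.mk (Over.homMk (U.left.fromSpecResidueField t) rfl :
      Over.mk (U.left.fromSpecResidueField t ≫ U.hom) ⟶ U)
    let b : 𝒳.p.obj r.obj ⟶ A.left := 𝒳.p.map n ≫ eqToHom (x.w_obj A)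
    let o : Over U := Over.mk (b ≫ A.hom)
    let w : o ⟶ A := Over.homMk b rfl
    obtain ⟨χ, ⟨hχ, -⟩, -⟩ := existsUnique_cart hgX (show r.obj ⟶ x.obj A from n) (x.map w)
      (eqToHom (x.w_obj o)) (by rw [map_map x w]; show _ = _ ≫ b ≫ _; simp [b])
    obtain ⟨k⟩ := nonempty_pt r
    rw [hr ι hch]
    refine ⟨o, k, ?_, triv_of_hom α hgY χ hr'⟩
    show (b.left ≫ U.left.fromSpecResidueField t) k = t
    rw [Scheme.Hom.comp_apply]
    exact Scheme.fromSpecResidueField_apply _ _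
  have hdU : Dense (AlgSt.Points.ofChart x ⁻¹' Set.range (AlgSt.Points.map i)) :=
    hdense.preimage (isOpenMap_ofChart hgX x ((repWith_ofOverCat_iff _ _).2 hflat) ((repWith_ofOverCat_iff _ _).2 hlfp))
  have huniv : Set.range ι.left = Set.univ := by
    rw [← hclosed.closure_eq]
    exact (hdU.mono hsub).closure_eq
  have hchart : ∀ o : Over U, Triv α (x.obj o) := fun o => by
    refine (hch o).2 ⟨Over.homMk (IsOpenImmersion.lift ι.left o.hom.left (by rw [huniv]; exact Set.subset_univ _)) ?_, ?_⟩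
    · rw [← Over.w ι, ← Category.assoc, IsOpenImmersion.lift_fac, Over.w]
    · exact Over.OverMorphism.ext (IsOpenImmersion.lift_fac _ _ _)
  -- descend from the chart
  apply BasedNatTrans.homCategory.ext
  ext ξ
  show α.toNatTrans.app ξ = 𝟙 (F.obj ξ)
  obtain ⟨y, i₀, hi₀⟩ := AlgStLib.exists_point hgX ξ
  obtain ⟨V₁, d, hd₁, hd₂, hd₃, z, ⟨iz⟩⟩ := lifts_of_fppf hflat hlfp hx₂ _ y
  haveI := hd₁
  haveI := hd₂
  haveI := hd₃
  let ξ' := (BasedFunctor.comp (Stk.ofPshMap ((pyon S).map d)) y).obj (AlgStLib.pt V₁)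
  let a : (BasedFunctor.comp z x₁).obj (AlgStLib.pt V₁) ≅ ξ' := ((BasedNatTrans.forgetful _ _).mapIso iz).app _
  let o : Over U := Over.mk (z.obj (AlgStLib.pt V₁)).sec.down
  have h₁ : Triv α (x₁.obj (z.obj (AlgStLib.pt V₁))) := hchart o
  have h₂ : Triv α ξ' := triv_of_hom α hgY a.inv h₁
  let d' : (Stk.ofPshMap ((pyon S).map d)).obj (AlgStLib.pt V₁) ⟶ AlgStLib.pt (𝒳.p.obj ξ) :=
    ⟨d, congrArg ULift.up ((Category.comp_id d).trans (Category.id_comp d).symm)⟩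
  let φ : ξ' ⟶ ξ := y.map d' ≫ i₀.hom
  have hφ : 𝒳.p.map φ = eqToHom (y.w_obj _) ≫ d := by
    rw [Functor.map_comp, map_map y d', hi₀]
    simp [d']
  refine GerbLib.hom_ext_local h𝒴.1.isStack (e := rfl) ((map_app_id α ξ).trans (eqToHom_refl _ rfl).symm)
    ((𝒴.p.map_id _).trans (eqToHom_refl _ rfl).symm)
    (GrothendieckTopology.pullback_stable _ (eqToHom (F.w_obj ξ))
      (QuotShLib.generate_singleton_mem_J d.left.singleton_mem_fppfPrecoverage)) fun W f hf => ?_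
  obtain ⟨W', a₁, _, ⟨⟩, hab⟩ := hf
  obtain ⟨ζ, ψ, hζ, hψ⟩ := FibCatRep.exists_lift hgX (x := ξ') (a₁ ≫ eqToHom (show V₁ = 𝒳.p.obj ξ' from (y.w_obj ((Stk.ofPshMap ((pyon S).map d)).obj (AlgStLib.pt V₁))).symm))
  have hab' : a₁ ≫ d = f ≫ eqToHom (F.w_obj ξ) := hab
  refine ⟨F.obj ζ, F.map (ψ ≫ φ), (F.w_obj ζ).trans hζ, ?_, ?_⟩
  · rw [map_map, Functor.map_comp, hψ, hφ]
    simp [reassoc_of% hab']
  · rw [α.toNatTrans.naturality, show α.toNatTrans.app ζ = 𝟙 _ from triv_of_hom α hgY ψ h₂, Category.id_comp,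
      Category.comp_id]

end Groth.Agent.DMDiag

end

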